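import Groth.Agent.KFlatLib.Perfect.Retract
import Groth.Agent.KFlatLib.Perfect.Top
import Groth.Agent.KFlatLib.Perfect.Tensor
import Groth.Agent.PCohLib.Functor

/-! Pseudo-coherence of a complex from pseudo-coherence of its terms. -/

set_option linter.style.haveILetI false

universe u

open CategoryTheory CategoryTheory.Limits AlgebraicGeometry CategoryTheory.Pretriangulated

attribute [local instance] HasDerivedCategory.standard

namespace Groth.Agent.KSix54

open Groth.Agent.KFlatLib

variable {X : Scheme.{u}}

lemma locPC_single {m : ℤ} {M : X.Modules} (j : ℤ) (h : LocPC (m - j) (DCoh.inD X M)) :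
    LocPC m ((DerivedCategory.singleFunctor X.Modules j).obj M) :=
  LocPC.of_iso (PCohLib.singleShift M j) (by
    have h' := h.shift (-j)
    rwa [show m - j - -j = m by omega] at h')

lemma locPC_of_isZero_module (m : ℤ) {M : X.Modules} (h : IsZero M) : LocPC m (DCoh.inD X M) :=
  locPC_of_isZero m _ fun _ _ =>
    (DerivedCategory.homologyFunctor X.Modules _).map_isZero
      ((DerivedCategory.singleFunctor X.Modules 0).map_isZero h)

lemma locPC_biprod_module {m : ℤ} {M N : X.Modules} (hM : LocPC m (DCoh.inD X M))
    (hN : LocPC m (DCoh.inD X N)) : LocPC m (DCoh.inD X (M ⊞ N)) := by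
  haveI : (DerivedCategory.singleFunctor X.Modules 0).Additive := inferInstance
  haveI : PreservesBinaryBiproducts (DerivedCategory.singleFunctor X.Modules 0) :=
    preservesBinaryBiproducts_of_preservesBiproducts _
  exact LocPC.of_iso ((DerivedCategory.singleFunctor X.Modules 0).mapBiprod M N).symm
    ((locPC_two_of_three m _ (binaryBiproductTriangle_distinguished _ _)).2.1 hM hN)

/-- A bounded above complex whose terms are pseudo-coherent to the required degree. -/
lemma locPC_Q_of_terms (m : ℤ) : ∀ (k : ℕ) (F : CochainComplex X.Modules ℤ),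
    (∀ i : ℤ, m + k ≤ i → IsZero (F.X i)) →
    (∀ i : ℤ, m ≤ i → LocPC (m - i) (DCoh.inD X (F.X i))) → LocPC m (DerivedCategory.Q.obj F)
  | 0, F, hb, _ => locPC_of_isZero m _ fun i hi =>
      (ShortComplex.isZero_homology_of_isZero_X₂ (F.sc i) (hb i (by omega)) :
        IsZero (F.homology i)).of_iso ((DerivedCategory.homologyFunctorFactors X.Modules i).app F)
  | k + 1, F, hb, hfp => by
    obtain ⟨F', f, g, d, hT, hzb, hiso⟩ :=
      PCohLib.exists_peel F (m + k) (fun i hi => hb i (by push_cast; omega))
    refine (locPC_two_of_three m _ hT).2.1 (locPC_single _ (hfp _ (by omega)))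
      (locPC_Q_of_terms m k F' (fun i hi => ?_) fun i hi => ?_)
    · rcases eq_or_ne i (m + k) with rfl | hib
      · exact hzb
      · obtain ⟨e⟩ := hiso i hib
        exact (hb i (by push_cast; omega)).of_iso e.symm
    · rcases eq_or_ne i (m + k) with rfl | hib
      · exact locPC_of_isZero_module _ hzb
      · obtain ⟨e⟩ := hiso i hib
        exact LocPC.of_iso ((DerivedCategory.singleFunctor X.Modules 0).mapIso e) (hfp i hi)

/-- The target of a map which is an isomorphism in high degrees. -/
lemma locPC_of_isPcMap {m M : ℤ} {A B : DCoh.D X} (f : A ⟶ B) (hf : IsPcMap m f) (hm : m ≤ M)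
    (hA : LocPC M A) : LocPC M B := fun x => by
  obtain ⟨U, j, _, hx, P, α, hP, hα⟩ := hA x
  exact ⟨U, j, _, hx, P, α ≫ (rho j).map f, hP, hα.comp ((hf.map_exact _).mono hm)⟩

end Groth.Agent.KSix54
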