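import Groth.Agent.KSix54.PCI.Push
import Groth.Agent.KSix54.PCI.Terms
import Mathlib.AlgebraicGeometry.Morphisms.ClosedImmersion

/-! Pseudo-coherence of direct images of locally free modules along a closed immersion. -/

set_option linter.style.haveILetI false
set_option backward.isDefEq.respectTransparency false

universe u

open CategoryTheory CategoryTheory.Limits AlgebraicGeometry

attribute [local instance] HasDerivedCategory.standard

namespace Groth.Agent.KSix54

open Groth.Agent.KFlatLib

variable {X Y : Scheme.{u}} (i : X ⟶ Y) [IsClosedImmersion i]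

/-- The free module of rank one. -/
noncomputable def freeOneIso' (X : Scheme.{u}) : FlatMod.freeMod X 1 ≅ Coh.structureModule X :=
  coproductUniqueIso fun _ : Fin 1 => Coh.structureModule X

/-- `i_* O` is `s`-pseudo-coherent. -/
def PushPC (s : ℤ) : Prop :=
  LocPC s (DCoh.inD Y ((Scheme.Modules.pushforward i).obj (Coh.structureModule X)))

lemma exists_preimage_eq (W : X.Opens) {x : X} (hx : x ∈ W) :
    ∃ V : Y.Opens, i.base x ∈ V ∧ i ⁻¹ᵁ V = W := by
  obtain ⟨V, hV, hVW⟩ := i.isClosedEmbedding.isInducing.isOpen_iff.1 W.isOpen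
  exact ⟨⟨V, hV⟩, show x ∈ i.base ⁻¹' V from hVW.symm ▸ hx, TopologicalSpace.Opens.ext hVW⟩

/-- The open complement of the image. -/
def complOpen : Y.Opens := ⟨(Set.range i.base)ᶜ, i.isClosedEmbedding.isClosed_range.isOpen_compl⟩

lemma locPC_pushD_of_cover {m : ℤ} {K : DCoh.D X}
    (h : ∀ x : X, ∃ (V : Y.Opens), i.base x ∈ V ∧
      (haveI := restrict_closed i V; LocPC m ((pushD (i ∣_ V)).obj ((rho (i ⁻¹ᵁ V).ι).obj K)))) :
    LocPC m ((pushD i).obj K) :=
  LocPC.of_local fun y => by
    by_cases hy : y ∈ Set.range i.base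
    · obtain ⟨x, rfl⟩ := hy
      obtain ⟨V, hxV, hV⟩ := h x
      exact ⟨_, V.ι, inferInstance, ⟨⟨_, hxV⟩, rfl⟩, LocPC.of_iso (pushRho i V K).symm hV⟩
    · refine ⟨_, (complOpen i).ι, inferInstance, ⟨⟨y, hy⟩, rfl⟩, locPC_of_isZero m _ fun n _ => ?_⟩
      exact ((isZero_restrict_push i (complOpen i) (fun z hz => hz) (DCoh.HD K n)).of_iso
        ((Scheme.Modules.restrictFunctor (complOpen i).ι).mapIso ((pushHD i n).app K))).of_iso
          (hdRhoIso (complOpen i).ι ((pushD i).obj K) n)

/-- Direct image of a module in degree zero. -/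
noncomputable def pushSingle (M : X.Modules) :
    (pushD i).obj (DCoh.inD X M) ≅ DCoh.inD Y ((Scheme.Modules.pushforward i).obj M) :=
  ((Scheme.Modules.pushforward i).mapDerivedCategorySingleFunctor 0).app M

/-- Restriction of a module in degree zero. -/
noncomputable def rhoSingle {U : Scheme.{u}} (j : U ⟶ X) [IsOpenImmersion j] (M : X.Modules) :
    (rho j).obj (DCoh.inD X M) ≅ DCoh.inD U (M.restrict j) :=
  ((Scheme.Modules.restrictFunctor j).mapDerivedCategorySingleFunctor 0).app M

noncomputable def restrictStructureIso {U : Scheme.{u}} (j : U ⟶ X) [IsOpenImmersion j] :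
    (Coh.structureModule X).restrict j ≅ Coh.structureModule U :=
  (Scheme.Modules.restrictFunctorIsoPullback j).app _ ≪≫
    (Scheme.Modules.pullback j).mapIso (freeOneIso' X).symm ≪≫ pullFreeIso j 1 ≪≫ freeOneIso' U

lemma PushPC.restrict {s : ℤ} (h : PushPC i s) (V : Y.Opens) :
    haveI := restrict_closed i V
    PushPC (i ∣_ V) s := by
  haveI := restrict_closed i V
  exact LocPC.of_iso ((rho V.ι).mapIso (pushSingle i _).symm ≪≫ pushRho i V _ ≪≫
    (pushD (i ∣_ V)).mapIso (rhoSingle _ _ ≪≫
      (DerivedCategory.singleFunctor _ 0).mapIso (restrictStructureIso _)) ≪≫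
    pushSingle (i ∣_ V) _) (LocPC.restrict h V.ι)

lemma PushPC.mono {s s' : ℤ} (h : PushPC i s) (hs : s ≤ s') : PushPC i s' := LocPC.mono h hs

lemma locPC_push_free {s : ℤ} (h : PushPC i s) : ∀ n : ℕ,
    LocPC s (DCoh.inD Y ((Scheme.Modules.pushforward i).obj (FlatMod.freeMod X n)))
  | 0 => locPC_of_isZero_module _ ((Scheme.Modules.pushforward i).map_isZero isZero_freeMod_zero)
  | n + 1 => by
    haveI : PreservesBinaryBiproducts (Scheme.Modules.pushforward i) :=
      preservesBinaryBiproducts_of_preservesBiproducts _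
    exact LocPC.of_iso ((DerivedCategory.singleFunctor Y.Modules 0).mapIso
      (((Scheme.Modules.pushforward i).mapBiprod _ _).symm ≪≫
        (Scheme.Modules.pushforward i).mapIso (biprodFreeIso n 1)))
      (locPC_biprod_module (locPC_push_free h n) (LocPC.of_iso
        ((DerivedCategory.singleFunctor Y.Modules 0).mapIso
          ((Scheme.Modules.pushforward i).mapIso (freeOneIso' X).symm)) h))

lemma locPC_push_finLocFree {s : ℤ} (h : PushPC i s) {M : X.Modules}
    (hM : FlatMod.IsFinLocFree M) :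
    LocPC s (DCoh.inD Y ((Scheme.Modules.pushforward i).obj M)) := by
  refine LocPC.of_iso (pushSingle i M) (locPC_pushD_of_cover i fun x => ?_)
  obtain ⟨W, n, hx, ⟨e⟩⟩ := hM x
  obtain ⟨V, hxV, rfl⟩ := exists_preimage_eq i W hx
  haveI := restrict_closed i V
  exact ⟨V, hxV, LocPC.of_iso ((pushSingle (i ∣_ V) _).symm ≪≫
    (pushD (i ∣_ V)).mapIso ((DerivedCategory.singleFunctor _ 0).mapIso e.symm ≪≫
      (rhoSingle _ _).symm)) (locPC_push_free (i ∣_ V) (h.restrict i V) n)⟩

end Groth.Agent.KSix54
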