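import Groth.Agent.KSix54.PCI.Core
import Mathlib.AlgebraicGeometry.Morphisms.ClosedImmersion

/-! Composition and locality for pseudo-coherence along closed immersions. -/

set_option linter.style.haveILetI false
set_option backward.isDefEq.respectTransparency false

universe u

open CategoryTheory CategoryTheory.Limits AlgebraicGeometry

attribute [local instance] HasDerivedCategory.standard

namespace Groth.Agent.KSix54

open Groth.Agent.KFlatLib

variable {X Y Z : Scheme.{u}}

/-- Restriction along an open inside the range. -/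
lemma exists_bound_nhd {m : ℤ} {K : DCoh.D X} (h : LocPC m K) (x : X) :
    ∃ (V : X.Opens) (b : ℤ), x ∈ V ∧ ∀ n, b < n → IsZero (DCoh.HD ((rho V.ι).obj K) n) := by
  obtain ⟨U, j, _, hx, P, α, hP, hα⟩ := h x
  obtain ⟨⟨a, b, hab⟩, -⟩ := hP
  refine ⟨j.opensRange, max m b, hx, fun n hn => ?_⟩
  haveI := hα.1 n (by omega)
  have h1 : IsZero (DCoh.HD ((rho j).obj K) n) :=
    ((ShortComplex.isZero_homology_of_isZero_X₂ (P.sc n) (hab n (Or.inr (by omega))) :
      IsZero (P.homology n)).of_iso ((DerivedCategory.homologyFunctorFactors _ n).app P)).of_iso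
      (asIso ((DerivedCategory.homologyFunctor _ n).map α)).symm
  exact (isZero_HD_rho (rangeHom j) h1).of_iso
    ((DerivedCategory.homologyFunctor _ n).mapIso (rhoComp (rangeHom j) j _ (rangeHom_fac j) K).symm)

/-- Direct image along a composite. -/
noncomputable def pushDComp (i : X ⟶ Y) [IsClosedImmersion i] (j : Y ⟶ Z) [IsClosedImmersion j]
    (K : DCoh.D X) : (pushD (i ≫ j)).obj K ≅ (pushD j).obj ((pushD i).obj K) :=
  (pushD (i ≫ j)).mapIso (repIso K).symm ≪≫ (pushQ (i ≫ j)).app _ ≪≫
    DerivedCategory.Q.mapIso ((NatIso.mapHomologicalComplex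
      (Scheme.Modules.pushforwardComp i j).symm (ComplexShape.up ℤ)).app _) ≪≫
    ((pushQ j).app (((Scheme.Modules.pushforward i).mapHomologicalComplex (ComplexShape.up ℤ)).obj
      (DerivedCategory.Q.objPreimage K))).symm ≪≫
    (pushD j).mapIso (((pushQ i).app _).symm ≪≫ (pushD i).mapIso (repIso K))

/-- Direct image along equal morphisms. -/
noncomputable def pushDCongr {i i' : X ⟶ Y} [IsClosedImmersion i] [IsClosedImmersion i'] (h : i = i')
    (K : DCoh.D X) : (pushD i).obj K ≅ (pushD i').obj K :=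
  eqToIso (by subst h; rfl)

variable (i : X ⟶ Y) [IsClosedImmersion i]

/-- Forward direction, without a global bound. -/
theorem locPC_pushD' {m : ℤ} (hO' : ∀ t, PushPC i t) {K : DCoh.D X} (hK : LocPC m K) : LocPC m ((pushD i).obj K) := by
  refine locPC_pushD_of_cover i fun x => ?_
  obtain ⟨W, b, hxW, hb⟩ := exists_bound_nhd hK x
  obtain ⟨V, hxV, rfl⟩ := exists_preimage_eq i W hxW
  haveI := restrict_closed i V
  refine ⟨V, hxV, ?_⟩
  exact (locPC_pushD (i ∣_ V) ((hO' (m - b)).restrict i V) (LocPC.restrict hK _) hb).mono (by omega)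

/-- Backward direction, without a global bound. -/
theorem locPC_of_pushD' {m : ℤ} (hO : ∀ t, PushPC i t) {K : DCoh.D X}
    (h : LocPC m ((pushD i).obj K)) : LocPC m K := by
  refine LocPC.of_local fun x => ?_
  obtain ⟨V, b, hxV, hb⟩ := exists_bound_nhd h (i.base x)
  haveI := restrict_closed i V
  refine ⟨_, (i ⁻¹ᵁ V).ι, inferInstance, ⟨⟨x, hxV⟩, rfl⟩, ?_⟩
  exact locPC_of_pushD (i ∣_ V) ((hO (m + 1 - b)).restrict i V)
    (fun n hn => isZero_of_push (i ∣_ V) (((hb n hn).of_iso
      ((DerivedCategory.homologyFunctor _ n).mapIso (pushRho i V K).symm)).of_iso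
        ((pushHD (i ∣_ V) n).app _).symm)) (by omega)
    (LocPC.of_iso (pushRho i V K) (LocPC.restrict h V.ι))

/-- Pseudo-coherence is unchanged by a further pseudo-coherent closed immersion. -/
theorem locPC_push_iff {m : ℤ} (hO : ∀ t, PushPC i t) (K : DCoh.D X) :
    LocPC m ((pushD i).obj K) ↔ LocPC m K :=
  ⟨locPC_of_pushD' i hO, locPC_pushD' i hO⟩

theorem locPC_push_comp_iff (j : Y ⟶ Z) [IsClosedImmersion j] {m : ℤ} (hj : ∀ t, PushPC j t)
    (K : DCoh.D X) : LocPC m ((pushD (i ≫ j)).obj K) ↔ LocPC m ((pushD i).obj K) :=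
  ⟨fun h => (locPC_push_iff j hj _).1 (LocPC.of_iso (pushDComp i j K) h),
    fun h => LocPC.of_iso (pushDComp i j K).symm ((locPC_push_iff j hj _).2 h)⟩

end Groth.Agent.KSix54
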