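import Groth.Agent.KSix54.PCI.Free
import Groth.Agent.KFlatLib.Perfect.FiniteType
import Groth.Agent.KFlatLib.Scheme.TildePC
import Mathlib.AlgebraicGeometry.Modules.Sheaf

/-! Pseudo-coherence along a closed immersion with pseudo-coherent direct image of the structure sheaf. -/

set_option linter.style.haveILetI false
set_option backward.isDefEq.respectTransparency false

universe u

open CategoryTheory CategoryTheory.Limits AlgebraicGeometry CategoryTheory.Pretriangulated

attribute [local instance] HasDerivedCategory.standard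

namespace Groth.Agent.KSix54

open Groth.Agent.KFlatLib

variable {X Y : Scheme.{u}} (i : X ⟶ Y) [IsClosedImmersion i]

lemma isZero_HD_rho {U : Scheme.{u}} (j : U ⟶ X) [IsOpenImmersion j] {K : DCoh.D X} {n : ℤ}
    (h : IsZero (DCoh.HD K n)) : IsZero (DCoh.HD ((rho j).obj K) n) :=
  ((Scheme.Modules.restrictFunctor j).map_isZero h).of_iso (hdRhoIso j K n)

lemma isZero_HD_push {K : DCoh.D X} {n : ℤ} (h : IsZero (DCoh.HD K n)) :
    IsZero (DCoh.HD ((pushD i).obj K) n) :=
  ((Scheme.Modules.pushforward i).map_isZero h).of_iso ((pushHD i n).app K)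

/-- Forward direction. -/
theorem locPC_pushD {m s b : ℤ} (hO : PushPC i s) {K : DCoh.D X} (hK : LocPC m K)
    (hz : ∀ j, b < j → IsZero (DCoh.HD K j)) : LocPC (max m (s + b)) ((pushD i).obj K) := by
  rcases lt_or_ge b m with hb | hb
  · exact (locPC_of_isZero m _ fun n hn => isZero_HD_push i (hz n (by omega))).mono (le_max_left _ _)
  refine locPC_pushD_of_cover i fun x => ?_
  obtain ⟨U, j, _, hx, P, α, hP, hα⟩ := hK x
  obtain ⟨V, hxV, hV⟩ := exists_preimage_eq i j.opensRange hx
  haveI := restrict_closed i V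
  refine ⟨V, hxV, ?_⟩
  let W := i ⁻¹ᵁ V
  have hrg : Set.range W.ι.base ⊆ Set.range j.base := by
    rw [Scheme.Opens.range_ι]
    exact le_of_eq (congrArg SetLike.coe hV)
  let k : (W : Scheme.{u}) ⟶ U := IsOpenImmersion.lift j W.ι hrg
  have hk : k ≫ j = W.ι := IsOpenImmersion.lift_fac _ _ _
  haveI : IsOpenImmersion k := by
    haveI : IsOpenImmersion (k ≫ j) := hk ▸ inferInstance
    exact IsOpenImmersion.of_comp k j
  let P₁ := (rCx k).obj P
  have hP₁ : DCoh.IsStrictlyPerfect P₁ := isStrictlyPerfect_restrict k hP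
  let α₁ : DerivedCategory.Q.obj P₁ ⟶ (rho W.ι).obj K :=
    ((rhoQ k).app P).inv ≫ (rho k).map α ≫ (rhoComp k j W.ι hk K).hom
  have hα₁ : IsPcMap m α₁ := (hα.map_exact _).comp_iso _ _
  obtain ⟨⟨a₀, b₀, hab⟩, hf⟩ := id hP₁
  obtain ⟨P', hP', hz', -, ⟨e⟩⟩ := exists_cutoff b (max b₀ b - b).toNat P₁ hP₁
    (fun n hn => hab n (Or.inr (by omega))) (fun n hn => by
      haveI := hα₁.1 n (by omega)
      exact ((isZero_HD_rho W.ι (hz n hn)).of_iso
        (asIso ((DerivedCategory.homologyFunctor _ n).map α₁))).of_iso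
          ((DerivedCategory.homologyFunctorFactors _ n).app P₁).symm)
  have hPpc : LocPC (max m (s + b)) ((pushD (i ∣_ V)).obj (DerivedCategory.Q.obj P')) := by
    refine LocPC.of_iso ((pushQ (i ∣_ V)).app P').symm (locPC_Q_of_terms _
      (b + 1 - max m (s + b)).toNat _ (fun n hn => (Scheme.Modules.pushforward (i ∣_ V)).map_isZero
        (hz' n (by omega))) fun n hn => ?_)
    rcases lt_or_ge b n with h | h
    · exact locPC_of_isZero_module _ ((Scheme.Modules.pushforward (i ∣_ V)).map_isZero (hz' n h))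
    · exact (locPC_push_finLocFree (i ∣_ V) (hO.restrict i V) (hP'.2 n)).mono
        (by have := le_max_right m (s + b); omega)
  exact locPC_of_isPcMap ((pushD (i ∣_ V)).map (e.hom ≫ α₁))
    (((isPcMap_of_isIso m e.hom).comp hα₁).map_exact _) (le_max_left _ _) hPpc

/-- Finite type is reflected along a closed immersion, in the form used below. -/
lemma exists_epi_free_of_push {M : X.Modules}
    (h : CohB1.IsFT ((Scheme.Modules.pushforward i).obj M)) (x : X) :
    ∃ (V : Y.Opens) (n : ℕ) (q : FlatMod.freeMod ((i ⁻¹ᵁ V : X.Opens) : Scheme.{u}) n ⟶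
      M.restrict (i ⁻¹ᵁ V).ι), i.base x ∈ V ∧ Epi q := by
  obtain ⟨V, n, p, hxV, hp⟩ := exists_epi_free_of_isFT h (i.base x)
  haveI := restrict_closed i V
  let q₀ : FlatMod.freeMod (V : Scheme.{u}) n ⟶
      (Scheme.Modules.pushforward (i ∣_ V)).obj (M.restrict (i ⁻¹ᵁ V).ι) :=
    p ≫ ((pushRestrictIso i V).app M).hom
  haveI : Epi q₀ := @epi_comp _ _ _ _ _ p hp _ inferInstance
  let adj := Scheme.Modules.pullbackPushforwardAdjunction (i ∣_ V)
  let q₁ := (adj.homEquiv _ _).symm q₀
  haveI : Epi q₁ := by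
    have hq : adj.unit.app _ ≫ (Scheme.Modules.pushforward (i ∣_ V)).map q₁ = q₀ :=
      (adj.homEquiv_unit _ _ _).symm.trans ((adj.homEquiv _ _).apply_symm_apply q₀)
    haveI : Epi ((Scheme.Modules.pushforward (i ∣_ V)).map q₁) := epi_of_epi_fac hq
    exact epi_of_push (i ∣_ V) q₁
  exact ⟨V, n, (pullFreeIso (i ∣_ V) n).inv ≫ q₁, hxV, inferInstance⟩

lemma locPC_of_pushD_aux (M s : ℤ) (d : ℕ) : ∀ {X Y : Scheme.{u}} (i : X ⟶ Y) [IsClosedImmersion i]
    (b : ℤ) (K : DCoh.D X), b < M + d → s + b ≤ M + 1 → PushPC i s →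
    (∀ j, b < j → IsZero (DCoh.HD K j)) → LocPC M ((pushD i).obj K) → LocPC M K := by
  induction d with
  | zero =>
    intro X Y i _ b K hb _ _ hz _
    exact locPC_of_isZero M K fun j hj => hz j (by omega)
  | succ d ih =>
    intro X Y i _ b K hbd hsb hO hz hK
    rcases lt_or_ge b M with hb | hb
    · exact locPC_of_isZero M K fun j hj => hz j (by omega)
    refine LocPC.of_local fun x => ?_
    have hft : CohB1.IsFT ((Scheme.Modules.pushforward i).obj (DCoh.HD K b)) :=
      isFT_of_iso' ((pushHD i b).app K)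
        (isFT_top (hK.mono hb) fun j hj => isZero_HD_push i (hz j hj))
    obtain ⟨V, n, q, hxV, hq⟩ := exists_epi_free_of_push i hft x
    haveI := restrict_closed i V
    let W := i ⁻¹ᵁ V
    let K₁ := (rho W.ι).obj K
    haveI : K₁.IsLE b := (DerivedCategory.isLE_iff _ b).2 fun j hj => isZero_HD_rho W.ι (hz j hj)
    obtain ⟨G, hG, ⟨eG⟩⟩ := K₁.exists_iso_Q_obj_of_isLE b
    haveI := hG
    haveI : IsIso (G.homologyι b) := G.isIso_homologyι b (b + 1) (by simp)
      ((G.isZero_of_isStrictlyLE b (b + 1) (by omega)).eq_of_tgt _ _)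
    let π : G.X b ⟶ G.opcycles b := G.pOpcycles b
    let eH : (DCoh.HD K b).restrict W.ι ≅ G.opcycles b :=
      (hdRhoIso W.ι K b).symm ≪≫ (DerivedCategory.homologyFunctor _ b).mapIso eG ≪≫
        (DerivedCategory.homologyFunctorFactors _ b).app G ≪≫ asIso (G.homologyι b)
    haveI : Epi (q ≫ eH.hom) := @epi_comp _ _ _ _ _ q hq _ inferInstance
    obtain ⟨W', l, hxW', hl⟩ :=
      exists_lift (isFinLocFree_freeMod n) π (q ≫ eH.hom) ⟨x, hxV⟩
    obtain ⟨V', hxV', hV'⟩ := exists_preimage_eq (i ∣_ V) W' hxW'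
    subst hV'
    haveI := restrict_closed (i ∣_ V) V'
    let i' := i ∣_ V ∣_ V'
    let R := Scheme.Modules.restrictFunctor ((i ∣_ V) ⁻¹ᵁ V').ι
    let F := R.obj (FlatMod.freeMod (W : Scheme.{u}) n)
    have hF : FlatMod.IsFinLocFree F := isFinLocFree_restrict _ (isFinLocFree_freeMod n)
    let G' := (rCx ((i ∣_ V) ⁻¹ᵁ V').ι).obj G
    let S := (HomologicalComplex.single _ (ComplexShape.up ℤ) b).obj F
    let φ : S ⟶ G' := HomologicalComplex.mkHomFromSingle l fun j hj => by
      have hj' : b + 1 = j := hj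
      exact (R.map_isZero (G.isZero_of_isStrictlyLE b j (by omega))).eq_of_tgt _ _
    have hO' : PushPC i' s := (hO.restrict i V).restrict (i ∣_ V) V'
    have hSperf : DCoh.IsStrictlyPerfect S :=
      ⟨⟨b, b, fun j hj => HomologicalComplex.isZero_single_obj_X (ComplexShape.up ℤ) b F j (by omega)⟩,
        fun j => by
          rcases eq_or_ne j b with rfl | hj
          · exact H23.PullPush.isFinLocFree_of_iso
              (HomologicalComplex.singleObjXSelf (ComplexShape.up ℤ) j F).symm hF
          · exact isFinLocFree_of_isZero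
              (HomologicalComplex.isZero_single_obj_X (ComplexShape.up ℤ) b F j hj)⟩
    have hSz : ∀ j, b < j → IsZero (DCoh.HD (DerivedCategory.Q.obj S) j) := fun j hj =>
      (ShortComplex.isZero_homology_of_isZero_X₂ (S.sc j)
        (HomologicalComplex.isZero_single_obj_X (ComplexShape.up ℤ) b F j (by omega)) :
          IsZero (S.homology j)).of_iso ((DerivedCategory.homologyFunctorFactors _ j).app S)
    have hS : ∀ m, LocPC m (DerivedCategory.Q.obj S) := fun m y =>
      ⟨_, 𝟙 _, inferInstance, ⟨y, rfl⟩, _, ((rhoQ (𝟙 _)).app S).inv, isStrictlyPerfect_restrict _ hSperf,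
        isPcMap_of_isIso m _⟩
    have hG'z : ∀ j, b < j → IsZero (G'.X j) := fun j hj =>
      R.map_isZero (G.isZero_of_isStrictlyLE b j hj)
    have hφ : IsPcMap b (DerivedCategory.Q.map φ) := by
      refine isPcMap_of_homologyMap b φ (fun j hj => ?_) ?_
      · have h1 : IsZero (S.homology j) := ShortComplex.isZero_homology_of_isZero_X₂ _
          (HomologicalComplex.isZero_single_obj_X (ComplexShape.up ℤ) b F j (by omega))
        have h2 : IsZero (G'.homology j) := ShortComplex.isZero_homology_of_isZero_X₂ _ (hG'z j hj)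
        exact ⟨0, h1.eq_of_src _ _, h2.eq_of_src _ _⟩
      · haveI : IsIso (G'.homologyι b) := G'.isIso_homologyι b (b + 1) (by simp)
          ((hG'z (b + 1) (by omega)).eq_of_tgt _ _)
        have hlπ : Epi (l ≫ R.map π) := by rw [hl]; infer_instance
        have hd : G.d (b - 1) b ≫ π = 0 := G.d_pOpcycles (b - 1) b
        haveI : Epi (R.map π) := inferInstance
        have hex : ((ShortComplex.mk _ _ hd).map R).Exact :=
          (ShortComplex.exact_of_g_is_cokernel (ShortComplex.mk _ _ hd)
            (G.opcyclesIsCokernel (b - 1) b (by simp))).map R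
        haveI hlp : Epi (φ.f b ≫ G'.pOpcycles b) := by
          refine Preadditive.epi_of_cancel_zero _ fun {Z} z hz => ?_
          haveI : Epi (((ShortComplex.mk _ _ hd).map R).g) := inferInstanceAs (Epi (R.map π))
          obtain ⟨w, hw⟩ : ∃ w, R.map π ≫ w = G'.pOpcycles b ≫ z :=
            ⟨hex.desc _ (show G'.d (b - 1) b ≫ G'.pOpcycles b ≫ z = 0 by
              rw [G'.d_pOpcycles_assoc, zero_comp]), hex.g_desc _ _⟩
          have hφb : φ.f b = (HomologicalComplex.singleObjXSelf (ComplexShape.up ℤ) b F).hom ≫ l := by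
            simp [φ, HomologicalComplex.mkHomFromSingle_f]
          rw [hφb, Category.assoc, Category.assoc, ← hw, ← Category.assoc l] at hz
          have hw0 : w = 0 := by
            rw [← cancel_epi (l ≫ R.map π), comp_zero, ← cancel_epi
              (HomologicalComplex.singleObjXSelf (ComplexShape.up ℤ) b F).hom, comp_zero]
            exact hz
          rw [← cancel_epi (G'.pOpcycles b), comp_zero, ← hw, hw0, comp_zero]
        haveI : Epi (HomologicalComplex.opcyclesMap φ b) :=
          epi_of_epi_fac (HomologicalComplex.p_opcyclesMap φ b)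
        haveI : IsIso (S.homologyι b) := S.isIso_homologyι b (b + 1) (by simp)
          ((HomologicalComplex.isZero_single_obj_X (ComplexShape.up ℤ) b F (b + 1) (by omega)).eq_of_tgt _ _)
        have hh : HomologicalComplex.homologyMap φ b =
            S.homologyι b ≫ HomologicalComplex.opcyclesMap φ b ≫ inv (G'.homologyι b) := by
          rw [← cancel_mono (G'.homologyι b)]
          simp
        rw [hh]
        exact epi_comp' inferInstance (epi_comp' inferInstance inferInstance)
    let T : Triangle (DCoh.D _) :=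
      DerivedCategory.Q.mapTriangle.obj (CochainComplex.mappingCone.triangle φ)
    have hT : T ∈ distinguishedTriangles :=
      (DerivedCategory.mem_distTriang_iff T).2 ⟨_, _, φ, ⟨Iso.refl _⟩⟩
    let eK : (rho ((i ∣_ V) ⁻¹ᵁ V').ι).obj K₁ ≅ DerivedCategory.Q.obj G' :=
      (rho _).mapIso eG ≪≫ (rhoQ _).app G
    have hG' : LocPC M ((pushD i').obj (DerivedCategory.Q.obj G')) :=
      LocPC.of_iso ((rho V'.ι).mapIso (pushRho i V K) ≪≫ pushRho (i ∣_ V) V' K₁ ≪≫
        (pushD i').mapIso eK) (LocPC.restrict (LocPC.restrict hK V.ι) V'.ι)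
    have hCone : LocPC M T.obj₃ := by
      refine ih i' (b - 1) _ (by push_cast at hbd; omega) (by omega) hO' (fun j hj =>
        ((isPcMap_iff_cone b φ).1 hφ j (by omega)).of_iso
          ((DerivedCategory.homologyFunctorFactors _ j).app _)) ?_
      refine (locPC_two_of_three M _ ((pushD i').map_distinguished T hT)).1 ?_ hG'
      exact (locPC_pushD i' hO' (hS (M + 1)) hSz).mono (by omega)
    exact ⟨_, ((i ∣_ V) ⁻¹ᵁ V').ι ≫ W.ι, inferInstance, ⟨⟨⟨x, hxV⟩, hxV'⟩, rfl⟩,
      LocPC.of_iso (eK.symm ≪≫ rhoComp _ W.ι _ rfl K)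
        ((locPC_two_of_three M T hT).2.1 (hS M) hCone)⟩

/-- Backward direction. -/
theorem locPC_of_pushD {m s b : ℤ} (hO : PushPC i s) {K : DCoh.D X}
    (hz : ∀ j, b < j → IsZero (DCoh.HD K j)) (hsb : s + b ≤ m + 1)
    (h : LocPC m ((pushD i).obj K)) : LocPC m K :=
  locPC_of_pushD_aux m s (b + 1 - m).toNat i b K (by omega) hsb hO hz h

end Groth.Agent.KSix54
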