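import Groth.Agent.KSix54.PCI.Spec
import Groth.Agent.KSix54.PCI.Comp

/-! Isomorphisms and composites of pseudo-coherent closed immersions. -/

set_option linter.style.haveILetI false
set_option backward.isDefEq.respectTransparency false

universe u

open CategoryTheory CategoryTheory.Limits AlgebraicGeometry

attribute [local instance] HasDerivedCategory.standard

namespace Groth.Agent.KSix54

open Groth.Agent.KFlatLib

variable {X Y Z : Scheme.{u}}

lemma locPC_structure (Y : Scheme.{u}) (t : ℤ) : LocPC t (DCoh.inD Y (Coh.structureModule Y)) :=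
  fun y => ⟨Y, 𝟙 Y, inferInstance, ⟨y, rfl⟩, _,
    ((DerivedCategory.singleFunctorIsoCompQ Y.Modules 0).app _).inv ≫
      (DerivedCategory.singleFunctor Y.Modules 0).map
        ((freeOneIso' Y).hom ≫ (restrictStructureIso (𝟙 Y)).inv) ≫ (rhoSingle (𝟙 Y) _).inv,
    isStrictlyPerfect_single 1, isPcMap_of_isIso t _⟩

/-- The direct image of the structure sheaf along an isomorphism. -/
noncomputable def pushStructureIso (e : X ≅ Y) :
    (Scheme.Modules.pushforward e.hom).obj (Coh.structureModule X) ≅ Coh.structureModule Y :=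
  let P := fun {A B : Scheme.{u}} (f : A ⟶ B) => Scheme.Modules.pushforward f
  let c : P e.inv ⋙ P e.hom ≅ 𝟭 _ := Scheme.Modules.pushforwardComp _ _ ≪≫
    Scheme.Modules.pushforwardCongr e.inv_hom_id ≪≫ Scheme.Modules.pushforwardId Y
  let r : Scheme.Modules.restrictFunctor e.hom ≅ P e.inv :=
    (Functor.leftUnitor _).symm ≪≫ Functor.isoWhiskerRight c.symm _ ≪≫ Functor.associator _ _ _ ≪≫
      Functor.isoWhiskerLeft _ (Scheme.Modules.restrictFunctorAdjCounitIso e.hom) ≪≫
      Functor.rightUnitor _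
  (P e.hom).mapIso ((restrictStructureIso e.hom).symm ≪≫ r.app _) ≪≫ c.app _

lemma pushPC_iso (e : X ⟶ Y) [IsIso e] (t : ℤ) : PushPC e t :=
  LocPC.of_iso ((DerivedCategory.singleFunctor Y.Modules 0).mapIso (pushStructureIso (asIso e)).symm)
    (locPC_structure Y t)

lemma pushPC_comp (i : X ⟶ Y) [IsClosedImmersion i] (j : Y ⟶ Z) [IsClosedImmersion j]
    (hi : ∀ t, PushPC i t) (hj : ∀ t, PushPC j t) (t : ℤ) : PushPC (i ≫ j) t := by
  refine LocPC.of_iso (pushSingle (i ≫ j) _) ?_
  exact LocPC.of_iso (pushDComp i j _).symm ((locPC_push_iff j hj _).2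
    (LocPC.of_iso (pushSingle i _).symm (hi t)))

end Groth.Agent.KSix54
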