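import Groth.Agent.KFlatLib.Scheme.ClosedPush
import Groth.Agent.KFlatLib.Scheme.RpushRestrict
import Groth.Agent.KFlatLib.Perfect.Retract
import Groth.Agent.KFlatLib.Perfect.Top

/-! Direct image along a closed immersion on derived categories. -/

set_option linter.style.haveILetI false
set_option backward.isDefEq.respectTransparency false

universe u

open CategoryTheory CategoryTheory.Limits AlgebraicGeometry

attribute [local instance] HasDerivedCategory.standard

namespace Groth.Agent.KSix54

open Groth.Agent.KFlatLib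

variable {X Y : Scheme.{u}} (i : X ⟶ Y) [IsClosedImmersion i]

instance preservesFiniteColimits_closedPush :
    PreservesFiniteColimits (Scheme.Modules.pushforward i) :=
  ⟨fun J _ _ => preservesColimitsOfShape_push i J⟩

/-- Direct image along a closed immersion, on derived categories. -/
noncomputable abbrev pushD : DCoh.D X ⥤ DCoh.D Y :=
  (Scheme.Modules.pushforward i).mapDerivedCategory

/-- Direct image commutes with `Q`. -/
noncomputable def pushQ :
    DerivedCategory.Q ⋙ pushD i ≅
      (Scheme.Modules.pushforward i).mapHomologicalComplex (ComplexShape.up ℤ) ⋙ DerivedCategory.Q :=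
  (Scheme.Modules.pushforward i).mapDerivedCategoryFactors

/-- Direct image commutes with cohomology sheaves. -/
noncomputable def pushHD (n : ℤ) :
    pushD i ⋙ DerivedCategory.homologyFunctor Y.Modules n ≅
      DerivedCategory.homologyFunctor X.Modules n ⋙ Scheme.Modules.pushforward i :=
  mapDCHomologyIso (Scheme.Modules.pushforward i) n

lemma isZero_of_stalkAb {M : Y.Modules} (h : ∀ y, IsZero ((stalkAb (X := Y) y).obj M)) : IsZero M :=
  (IsZero.iff_id_eq_zero M).2 (by
    haveI : IsIso (0 : M ⟶ M) := isIso_of_stalk _ fun y => by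
      haveI : IsIso ((stalkAb (X := Y) y).map (0 : M ⟶ M)) := ⟨0, (h y).eq_of_src _ _, (h y).eq_of_src _ _⟩
      exact @isIso_of_reflects_iso _ _ _ _ _ _ _
        (forget₂ (ModuleCat (Y.presheaf.stalk y)) AddCommGrpCat) (by assumption) _
    exact (cancel_epi (0 : M ⟶ M)).1 (by simp))

lemma isZero_of_push {M : X.Modules} (h : IsZero ((Scheme.Modules.pushforward i).obj M)) :
    IsZero M :=
  isZero_of_stalkAb fun x =>
    (((stalkAb (X := Y) (i.base x)).map_isZero h)).of_iso ((stalkPushIso i x).app M).symm

lemma epi_of_push {M N : X.Modules} (g : M ⟶ N)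
    [Epi ((Scheme.Modules.pushforward i).map g)] : Epi g := by
  refine Preadditive.epi_of_isZero_cokernel _ (isZero_of_push i ?_)
  exact (isZero_cokernel_of_epi ((Scheme.Modules.pushforward i).map g)).of_iso
    (PreservesCokernel.iso (Scheme.Modules.pushforward i) g)

lemma restrict_closed (V : Y.Opens) : IsClosedImmersion (i ∣_ V) :=
  IsZariskiLocalAtTarget.restrict ‹_› V

/-- Direct image commutes with restriction. -/
noncomputable def pushRho (V : Y.Opens) (K : DCoh.D X) :
    haveI := restrict_closed i V
    (rho V.ι).obj ((pushD i).obj K) ≅ (pushD (i ∣_ V)).obj ((rho (i ⁻¹ᵁ V).ι).obj K) :=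
  haveI := restrict_closed i V
  (rho V.ι).mapIso ((pushD i).mapIso (repIso K).symm ≪≫ (pushQ i).app _) ≪≫ (rhoQ V.ι).app _ ≪≫
    DerivedCategory.Q.mapIso ((NatIso.mapHomologicalComplex (pushRestrictIso i V)
      (ComplexShape.up ℤ)).app _) ≪≫
    ((pushQ (i ∣_ V)).app ((rCx (i ⁻¹ᵁ V).ι).obj (DerivedCategory.Q.objPreimage K))).symm ≪≫
    (pushD (i ∣_ V)).mapIso (((rhoQ (i ⁻¹ᵁ V).ι).app _).symm ≪≫ (rho _).mapIso (repIso K))

/-- Outside the image the direct image vanishes. -/
lemma isZero_restrict_push (V : Y.Opens) (hV : ∀ y ∈ V, y ∉ Set.range i.base) (M : X.Modules) :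
    IsZero (((Scheme.Modules.pushforward i).obj M).restrict V.ι) :=
  isZero_of_stalkAb fun v =>
    (isZero_stalk_push i (V.ι.base v) (hV _ v.2) M).of_iso
      (Scheme.Modules.restrictStalkNatIso V.ι v |>.app ((Scheme.Modules.pushforward i).obj M))

end Groth.Agent.KSix54
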