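import Groth.Agent.KSix54.PCI.Core
import Groth.Agent.KFlatLib.Scheme.TildePush
import Groth.Agent.H9Misc.DRingRelPC3
import Groth.Agent.QCoh.Tilde

/-! Closed immersions of affine schemes with pseudo-coherent direct image. -/

set_option linter.style.haveILetI false

universe u

open CategoryTheory CategoryTheory.Limits AlgebraicGeometry

attribute [local instance] HasDerivedCategory.standard

namespace Groth.Agent.KSix54

open Groth.Agent.KFlatLib

variable {A B : CommRingCat.{u}} (g : A ⟶ B)

lemma pseudoCoherent_tildeD_iff {A : CommRingCat.{u}} (m : ℤ) (M : Dual.D (A : Type u)) :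
    LocPC m ((DCoh.tildeD A).obj M) ↔ DRing.IsPseudoCoherent (A : Type u) m M := by
  rw [← isPseudoCoherentD_iff]
  refine (KFlatLib.pseudoCoherentD_tildeD_iff (R := A) m M).trans ⟨?_, ?_⟩
  · rintro ⟨E, α, ⟨⟨a, b, hz⟩, hf⟩, hα⟩
    exact ⟨E, a, b, α, hz, hf, hα.1, hα.2⟩
  · rintro ⟨E, a, b, α, hz, hf, h1, h2⟩
    exact ⟨E, α, ⟨⟨a, b, hz⟩, hf⟩, h1, h2⟩

/-- The module `B` over `A`, sheafified, is the direct image of the structure sheaf. -/
noncomputable def tildeRestrictSelfIso :
    (tilde.functor A).obj ((ModuleCat.restrictScalars g.hom).obj (ModuleCat.of B B)) ≅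
      (Scheme.Modules.pushforward (Spec.map g)).obj (Coh.structureModule (Spec B)) :=
  ((pushTildeIso g).app (ModuleCat.of B B)).symm ≪≫
    (Scheme.Modules.pushforward (Spec.map g)).mapIso tildeSelf

lemma pushPC_spec_iff (s : ℤ) :
    PushPC (Spec.map g) s ↔
      DRing.IsPseudoCoherentModule (A : Type u) s
        ((ModuleCat.restrictScalars g.hom).obj (ModuleCat.of B B)) := by
  unfold PushPC DRing.IsPseudoCoherentModule
  rw [← pseudoCoherent_tildeD_iff]
  exact ⟨LocPC.of_iso ((DerivedCategory.singleFunctor _ 0).mapIso (tildeRestrictSelfIso g).symm ≪≫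
      (((tilde.functor A).mapDerivedCategorySingleFunctor 0).app _).symm),
    LocPC.of_iso ((((tilde.functor A).mapDerivedCategorySingleFunctor 0).app _) ≪≫
      (DerivedCategory.singleFunctor _ 0).mapIso (tildeRestrictSelfIso g))⟩

lemma pushPC_spec_of_pcHom (h : H9Misc.DRingRelPC.PCHom g.hom) (s : ℤ) : PushPC (Spec.map g) s :=
  (pushPC_spec_iff g s).2 ((H9Misc.DRingPC.pc'_iff _).1 h s)

end Groth.Agent.KSix54
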